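import Cfsg.Agent.GroupStructure3.Co222.Data
import Cfsg.Agent.InvChar.Coset.FiUnitVec
import Cfsg.Agent.GroupStructure3.McLInv.Basic
import Cfsg.Agent.Lib.PcMult.Leech.Elem

/-!
Tests on the tables of the 891 vectors and the six generators.
-/

set_option autoImplicit false
set_option maxRecDepth 10000

namespace Cfsg.Agent.GroupStructure3.Co222

open Cfsg.Agent.GroupStructure3.McLInv (allB allB_spec)
open Cfsg.Agent.InvChar.Coset.FiUnit (hb app isMult)
open Cfsg.Agent.Lib.PcMult.Leech (Mat mapL okMat)
open Cfsg.Agent.LeechAut.Gens (inLat vec)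

/-- An isotropic point. -/
def pv (c : ℕ) : ℕ := (ptNum >>> (12 * c)) % 4096

/-- The number of the point of a vector. -/
def pidx (x : ℕ) : ℕ := (idxNum >>> (10 * x)) % 1024

/-- A subspace, packed. -/
def plane (k : ℕ) : ℕ := (planeNum >>> (210 * k)) % 2 ^ 210

/-- A point of a packed subspace. -/
def nth (P t : ℕ) : ℕ := (P >>> (10 * t)) % 1024

/-- Membership in a packed subspace. -/
def memP : ℕ → ℕ → ℕ → Bool
  | _, _, 0 => false
  | P, c, t + 1 => nth P t == c || memP P c t

/-- Membership of a point in a subspace. -/
def inPlane (c k : ℕ) : Bool := memP (plane k) c 21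

/-- The first of two subspaces meeting in a point. -/
def twoA (c : ℕ) : ℕ := (twoNum >>> (20 * c)) % 1024

/-- The second of two subspaces meeting in a point. -/
def twoB (c : ℕ) : ℕ := (twoNum >>> (20 * c)) % 1048576 / 1024

/-- The vector of a subspace, as a list. -/
def lv (k : ℕ) : List ℤ := (lvecs.getD (k / 30) []).getD (k % 30) []

/-- The matrix of a generator. -/
def gm (k : ℕ) : Mat := genMats.getD k []

/-- The point of a generating transvection. -/
def gp (k : ℕ) : ℕ := genPts.getD k 0

/-- The moves of points. -/
def ptP : ℕ → ℕ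
  | 0 => ptPerm0
  | 1 => ptPerm1
  | 2 => ptPerm2
  | 3 => ptPerm3
  | 4 => ptPerm4
  | _ => ptPerm5

/-- The moves of subspaces. -/
def plP : ℕ → ℕ
  | 0 => plPerm0
  | 1 => plPerm1
  | 2 => plPerm2
  | 3 => plPerm3
  | 4 => plPerm4
  | _ => plPerm5

/-- The image of a point. -/
def ptI (g c : ℕ) : ℕ := (ptP g >>> (10 * c)) % 1024

/-- The image of a subspace. -/
def plI (g k : ℕ) : ℕ := (plP g >>> (10 * k)) % 1024

/-- A code of a vector. -/
def enc : List ℤ → ℕ
  | [] => 0
  | a :: l => (a + 8).toNat + 16 * enc l

theorem pts_ok : (allB 693 fun c => hb (pv c) (pv c) == 0 && pv c != 0) = true := by decide +kernel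

theorem idx_ok : (allB 4096 fun x => x == 0 || hb x x != 0 ||
    (decide (pidx x < 693) && isMult x (pv (pidx x)))) = true := by decide +kernel

theorem plane_ok : (allB 891 fun k => allB 21 fun t => decide (nth (plane k) t < 693)) = true := by
  decide +kernel

theorem two_ok : (allB 693 fun c => decide (twoA c < 891) && decide (twoB c < 891) &&
    inPlane c (twoA c) && inPlane c (twoB c) &&
    allB 21 fun t => let d := nth (plane (twoA c)) t; d == c || !inPlane d (twoB c)) = true := by
  decide +kernel

theorem lv_inj_ok : (allB 890 fun k => decide (enc (lv k) < enc (lv (k + 1)))) = true := by decide +kernel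

theorem lv_lat : (allB 891 fun k => (lv k).length == 24 && inLat (vec (lv k))) = true := by decide +kernel

theorem gens_ok : (allB 6 fun g => okMat (gm g) && decide (gp g < 693) &&
    (mapL vL (gm g) == vL.map fun x => 8 * x) && mapL wL (gm g) == wL.map fun x => 8 * x) = true := by
  decide +kernel

theorem pt_moves : (allB 6 fun g => allB 693 fun c =>
    decide (ptI g c < 693) && isMult (app (pv (gp g)) (pv c)) (pv (ptI g c))) = true := by decide +kernel

theorem pl_moves : (allB 6 fun g => allB 891 fun k => decide (plI g k < 891) &&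
    allB 21 fun t => inPlane (ptI g (nth (plane k) t)) (plI g k)) = true := by decide +kernel

/-- The points reached along the steps. -/
def reach : List ℕ → List (ℕ × ℕ × ℕ) → List ℕ
  | done, [] => done
  | done, e :: l =>
    if done.contains e.1 && decide (e.2.1 < 6) && decide (e.1 < 693) && ptI e.2.1 e.1 == e.2.2
    then reach (e.2.2 :: done) l else reach done l

theorem reach_ok : (allB 693 fun c => (reach [gp 0] chainL).contains c) = true := by decide +kernel

end Cfsg.Agent.GroupStructure3.Co222
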