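import Cfsg.Agent.GroupStructure3.Co222.Main

/-!
Any triangle of minimal vectors, any field of four elements.
-/

set_option autoImplicit false
set_option maxRecDepth 10000

noncomputable section

namespace Cfsg.Agent.GroupStructure3.Co222

open Matrix
open Cfsg Cfsg.Agent.Leech.Index
open Cfsg.Agent.InvChar.Coset (FF)
open Cfsg.Agent.LeechAut Cfsg.Agent.LeechAut.Basic

variable {F K : Type} [Field F] [Field K]

theorem herm_map (f : F ≃+* K) (u v : Fin 6 → F) :
    f (Cfsg.hermForm 6 F 2 u v) = Cfsg.hermForm 6 K 2 (fun i => f (u i)) (fun i => f (v i)) := by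
  simp [Cfsg.hermForm, map_sum]

theorem mem_map_SU (f : F ≃+* K) {g : Matrix.SpecialLinearGroup (Fin 6) F} (hg : g ∈ Cfsg.SU 6 F 2) :
    Matrix.SpecialLinearGroup.map f.toRingHom g ∈ Cfsg.SU 6 K 2 := by
  intro u v
  have key : ∀ u : Fin 6 → K, Cfsg.slToMat 6 K (Matrix.SpecialLinearGroup.map f.toRingHom g) *ᵥ u =
      fun i => f ((Cfsg.slToMat 6 F g *ᵥ fun j => f.symm (u j)) i) := fun u => by
    funext i
    simp [Cfsg.slToMat, Matrix.mulVec, dotProduct, map_sum]
  rw [key, key, ← herm_map, hg, herm_map]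
  simp

/-- Change of field. -/
def suMap (f : F ≃+* K) : Cfsg.SU 6 F 2 ≃* Cfsg.SU 6 K 2 where
  toFun g := ⟨Matrix.SpecialLinearGroup.map f.toRingHom g, mem_map_SU f g.2⟩
  invFun g := ⟨Matrix.SpecialLinearGroup.map f.symm.toRingHom g, mem_map_SU f.symm g.2⟩
  left_inv g := Subtype.ext (Subtype.ext (Matrix.ext fun a b => f.symm_apply_apply _))
  right_inv g := Subtype.ext (Subtype.ext (Matrix.ext fun a b => f.apply_symm_apply _))
  map_mul' g h := Subtype.ext (map_mul _ _ _)

theorem psuMap (f : F ≃+* K) : Nonempty (Cfsg.PSU 6 F 2 ≃* Cfsg.PSU 6 K 2) := by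
  refine ⟨QuotientGroup.congr _ _ (suMap f) ?_⟩
  ext b
  simp only [Subgroup.mem_map, Subgroup.mem_center_iff]
  constructor
  · rintro ⟨a, ha, rfl⟩ g
    obtain ⟨g, rfl⟩ := (suMap f).surjective g
    show suMap f g * suMap f a = suMap f a * suMap f g
    rw [← map_mul, ← map_mul, ha]
  · intro hb
    exact ⟨(suMap f).symm b, fun g => (suMap f).injective
      (by rw [map_mul, map_mul, (suMap f).apply_symm_apply, hb]), (suMap f).apply_symm_apply b⟩

theorem main (v w : leechLattice) (hv : sqNorm (v : Vec) = 32) (hw : sqNorm (w : Vec) = 32)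
    (hd : dotInt (v : Vec) (w : Vec) = -16) {F : Type} [Field F] [Fintype F] (hF : Fintype.card F = 4) :
    Nonempty (↥(MulAction.stabilizer Co0 v ⊓ MulAction.stabilizer Co0 w) ≃* Cfsg.PSU 6 F 2) := by
  obtain ⟨k, k1, k2⟩ := Pairs.trans_pairs v w vv ww hv hw dot_vw.1 dot_vw.2.1
    (Or.inr (by rw [hd]; rfl)) (dot_vw.2.2.trans hd.symm)
  have e : (MulAction.stabilizer Co0 v ⊓ MulAction.stabilizer Co0 w).map (MulAut.conj k).toMonoidHom = H := by
    ext g
    simp only [H, Subgroup.mem_map, Subgroup.mem_inf, MulAction.mem_stabilizer_iff,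
      MulEquiv.coe_toMonoidHom, MulAut.conj_apply]
    constructor
    · rintro ⟨j, ⟨j1, j2⟩, rfl⟩
      rw [← k1, ← k2]
      simp only [mul_smul, inv_smul_smul, j1, j2, and_self]
    · rintro ⟨g1, g2⟩
      refine ⟨k⁻¹ * g * k, ⟨?_, ?_⟩, by group⟩
      · rw [mul_smul, mul_smul, k1, g1, ← k1, inv_smul_smul]
      · rw [mul_smul, mul_smul, k2, g2, ← k2, inv_smul_smul]
  obtain ⟨E⟩ := nonempty_equiv
  obtain ⟨P⟩ := psuMap (FiniteField.ringEquivOfCardEq (by rw [hF, FF.card]) : FF ≃+* F)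
  exact ⟨((Subgroup.equivMapOfInjective _ _ (MulAut.conj k).injective).trans
    (MulEquiv.subgroupCongr e)).trans (E.trans P)⟩

end Cfsg.Agent.GroupStructure3.Co222
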