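import Cfsg.Agent.GroupStructure3.Co222.Moves
import Cfsg.Agent.S0280
import Cfsg.Agent.Lib.LeechAut.Moments

/-!
The stabiliser of a triangle of minimal vectors in `Co0` is the simple unitary group of dimension
six over four elements: six pairs of elements generate the graph of an isomorphism.
-/

set_option autoImplicit false
set_option maxRecDepth 10000

noncomputable section

namespace Cfsg.Agent.GroupStructure3.Co222

open Matrix
open Cfsg Cfsg.Agent.Leech.Index Cfsg.Agent.Leech.Basic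
open Cfsg.Agent.Classical.Unitary
open Cfsg.Agent.InvChar.Coset (FF)
open Cfsg.Agent.InvChar.Coset.FiUnit (V SU6 hF hb hb_spec app isMult isMult_spec iso_of tvOf tvOf_mulVec
  tvOf_vec tvOf_conj cube exists_vec)
open Cfsg.Agent.GroupStructure3.McLInv (allB allB_spec)
open Cfsg.Agent.Lib.PcMult.Leech (Mat mapL okMat elem elem_smul img mapZ mapL_getD mapL_length)
open Cfsg.Agent.LeechAut Cfsg.Agent.LeechAut.Basic
open Cfsg.Agent.Golay.Basic (ix pt ix_lt pt_ix ix_pt)

local notation "uvec" => Cfsg.Agent.InvChar.Coset.FiUnit.vec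
local notation "lvec" => Cfsg.Agent.LeechAut.Gens.vec

/-- The unitary group. -/
abbrev PS : Type := Cfsg.PSU 6 FF 2

/-- The projection. -/
def mkP : SU6 →* PS := QuotientGroup.mk' (Subgroup.center SU6)

theorem iso_pt {c : ℕ} (hc : c < 693) : Cfsg.hermForm 6 FF 2 (uvec (pv c)) (uvec (pv c)) = 0 := by
  have h := allB_spec pts_ok c hc
  rw [Bool.and_eq_true, beq_iff_eq] at h
  exact iso_of (by rw [h.1]; rfl)

theorem iso_cases {v : V} (hv : Cfsg.hermForm 6 FF 2 v v = 0) (h0 : v ≠ 0) :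
    ∃ c < 693, ∃ s : FF, s ≠ 0 ∧ v = s • uvec (pv c) := by
  obtain ⟨x, hx, rfl⟩ := exists_vec v
  have hp := allB_spec idx_ok x hx
  simp only [Bool.or_eq_true, Bool.and_eq_true, beq_iff_eq, bne_iff_ne, decide_eq_true_eq] at hp
  rcases hp with (hp | hp) | hp
  · exfalso
    rw [hp] at h0
    exact h0 (funext fun i => by fin_cases i <;> rfl)
  · exfalso
    obtain ⟨hlt, he⟩ := hb_spec x x
    rw [hv] at he
    exact hp ((by decide : ∀ a < 4, FF.ofBits a = 0 → a = 0) _ hlt he)
  · exact ⟨_, hp.1, isMult_spec hp.2⟩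

theorem tvSet_cases {g : SU6} (hg : g ∈ tvSet FF 2 6) : g = 1 ∨ ∃ c < 693, g = tvOf (pv c) := by
  obtain ⟨v, t, hv, htr, hg⟩ := hg
  have hmul : ∀ x : V, mat g *ᵥ x = x + (t * Cfsg.hermForm 6 FF 2 x v) • v := fun x => by
    rw [hg, Cfsg.Agent.Forms.HermStd.transvection_mulVec]
  by_cases h0 : v = 0
  · exact Or.inl (SU_ext fun x => by rw [hmul, h0, smul_zero, add_zero, mat_one, Matrix.one_mulVec])
  by_cases ht : t = 0
  · exact Or.inl (SU_ext fun x => by
      rw [hmul, ht, zero_mul, zero_smul, add_zero, mat_one, Matrix.one_mulVec])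
  obtain ⟨c, hc, s, hs, rfl⟩ := iso_cases hv h0
  have ht1 : t = 1 := (by decide : ∀ t : FF, t + t ^ 2 = 0 → t ≠ 0 → t = 1) t htr ht
  subst ht1
  refine Or.inr ⟨c, hc, SU_ext fun x => ?_⟩
  rw [hmul, tvOf_mulVec (iso_pt hc), one_mul, H_smul_right, smul_smul, mul_assoc, mul_comm _ s, ← mul_assoc,
    mul_comm (s ^ 2), cube s hs, one_mul]

theorem uvec_inj {n m : ℕ} (hn : n < 4096) (hm : m < 4096) (h : uvec n = uvec m) : n = m := by
  have hd : ∀ i : Fin 6, n / 4 ^ (i : ℕ) % 4 = m / 4 ^ (i : ℕ) % 4 := fun i => by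
    have e := congrFun h i
    rw [InvChar.Coset.FiUnit.vec, InvChar.Coset.FiUnit.vec] at e
    have k := (by decide : ∀ a < 4, ∀ b < 4, FF.ofBits a = FF.ofBits b → a = b) _
      (InvChar.Coset.FiUnit.digit_lt n i) _ (InvChar.Coset.FiUnit.digit_lt m i) e
    rwa [InvChar.Coset.FiUnit.digit_eq, InvChar.Coset.FiUnit.digit_eq] at k
  have h0 := hd 0; have h1 := hd 1; have h2 := hd 2; have h3 := hd 3; have h4 := hd 4; have h5 := hd 5
  simp only [Fin.val_zero, Fin.val_one, Fin.val_two] at h0 h1 h2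
  rw [show ((3 : Fin 6) : ℕ) = 3 from rfl] at h3
  rw [show ((4 : Fin 6) : ℕ) = 4 from rfl] at h4
  rw [show ((5 : Fin 6) : ℕ) = 5 from rfl] at h5
  norm_num at h0 h1 h2 h3 h4 h5
  omega

theorem pv_scale : (allB 693 fun c => allB 4 fun k => k == 0 ||
    (decide (InvChar.Coset.FiUnit.scale k (pv c) < 4096) && pidx (InvChar.Coset.FiUnit.scale k (pv c)) == c)) = true := by
  decide +kernel

theorem pv_unique {c d : ℕ} (hc : c < 693) (hd : d < 693) {t : FF} (h : uvec (pv c) = t • uvec (pv d)) : c = d := by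
  obtain ⟨hk, ek⟩ := InvChar.Coset.FiUnit.code_spec t
  set k := InvChar.Coset.FiUnit.code t
  have h1 := allB_spec (allB_spec pv_scale c hc) 1 (by norm_num)
  simp only [Bool.or_eq_true, Bool.and_eq_true, decide_eq_true_eq, beq_iff_eq, one_ne_zero, false_or] at h1
  rcases Nat.eq_zero_or_pos k with h0 | hpos
  · exfalso
    rw [show t = 0 by rw [← ek, h0]; rfl, zero_smul] at h
    have hz : pv c = 0 := uvec_inj (Nat.mod_lt _ (by norm_num)) (by norm_num)
      (h.trans (funext fun i => by fin_cases i <;> rfl))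
    have hp := allB_spec pts_ok c hc
    rw [hz] at hp
    simp at hp
  have h2 := allB_spec (allB_spec pv_scale d hd) k hk
  simp only [Bool.or_eq_true, Bool.and_eq_true, decide_eq_true_eq, beq_iff_eq] at h2
  obtain ⟨h2a, h2b⟩ := h2.resolve_left (by omega)
  have e1 : uvec (InvChar.Coset.FiUnit.scale 1 (pv c)) = uvec (pv c) := by
    rw [InvChar.Coset.FiUnit.vec_scale (by norm_num)]
    exact one_smul FF _
  have e : InvChar.Coset.FiUnit.scale 1 (pv c) = InvChar.Coset.FiUnit.scale k (pv d) :=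
    uvec_inj h1.1 h2a (e1.trans (h.trans (by rw [InvChar.Coset.FiUnit.vec_scale hk, ek])))
  rw [← h1.2, e, h2b]

theorem tv_top : tvGroup FF 2 6 = ⊤ := tvGroup_eq_top hF (by norm_num) (by norm_num)

/-- The vectors of the triangle. -/
def vv : leechLattice := ⟨lvec vL, Gens.mem_of_inLat (by decide +kernel)⟩

/-- The second vertex. -/
def ww : leechLattice := ⟨lvec wL, Gens.mem_of_inLat (by decide +kernel)⟩

/-- The vector of a subspace. -/
def Lv (k : Fin 891) : leechLattice :=
  ⟨lvec (lv k), Gens.mem_of_inLat (by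
    have h := allB_spec lv_lat k k.2
    rw [Bool.and_eq_true] at h
    exact h.2)⟩

theorem smul_list {M : Mat} (h : okMat M = true) {l l' : List ℤ} (hl : l.length = 24)
    (e : mapL l M = l'.map fun x => 8 * x) (z : leechLattice) (hz : (z : Vec) = lvec l) :
    ((elem M • z : leechLattice) : Vec) = lvec l' := by
  rw [elem_smul h, hz]
  have hs : M.length = 24 ∧ ∀ r ∈ M, r.length = 24 := by
    simp only [okMat, Lib.PcMult.Leech.orth, Lib.PcMult.Leech.shape, Bool.and_eq_true, beq_iff_eq,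
      List.all_eq_true] at h
    exact h.1.1
  have hlen' : l'.length = 24 := by
    have := congrArg List.length e
    rw [mapL_length _ _ hs.2, List.length_map] at this
    exact this.symm
  funext q
  have hget : mapZ M (lvec l) q = 8 * l'.getD (ix q) 0 := by
    have e1 := congrArg (fun L : List ℤ => L.getD (ix q) 0) e
    have hq : ix q < (l'.map fun x => 8 * x).length := by rw [List.length_map, hlen']; exact ix_lt q
    rw [List.getD_eq_getElem (l'.map fun x => 8 * x) 0 hq, List.getElem_map] at e1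
    rw [List.getD_eq_getElem l' 0 (by rw [hlen']; exact ix_lt q), ← e1,
      mapL_getD _ _ hs.2 (hl.trans hs.1.symm) (ix_lt q), hl,
      ← Fin.sum_univ_eq_sum_range (fun i => l.getD i 0 * Lib.PcMult.Leech.ent M i (ix q))]
    refine Finset.sum_congr rfl fun i _ => ?_
    show l.getD (ix (pt i)) 0 * _ = _
    rw [ix_pt i.2]
  show mapZ M (lvec l) q / 8 = _
  rw [hget, Int.mul_ediv_cancel_left _ (by norm_num)]
  rfl

/-- The stabiliser of the two vectors. -/
def H : Subgroup Co0 := MulAction.stabilizer Co0 vv ⊓ MulAction.stabilizer Co0 ww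

/-- A generating element of `Co0`. -/
def gC (g : Fin 6) : Co0 := elem (gm g)

/-- A generating transvection. -/
def gU (g : Fin 6) : SU6 := tvOf (pv (gp g))

theorem gens_spec (g : Fin 6) : okMat (gm g) = true ∧ gp g < 693 ∧ gC g ∈ H := by
  have h := allB_spec gens_ok g g.2
  simp only [Bool.and_eq_true, decide_eq_true_eq, beq_iff_eq] at h
  obtain ⟨⟨⟨hM, hp⟩, hv⟩, hw⟩ := h
  refine ⟨hM, hp, ⟨Subtype.ext ?_, Subtype.ext ?_⟩⟩
  · exact smul_list hM rfl hv vv rfl
  · exact smul_list hM rfl hw ww rfl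

/-- The pairs generating the graph of the isomorphism. -/
def gen2 (g : Fin 6) : Co0 × PS := (gC g, mkP (gU g))

/-- The graph. -/
def PG : Subgroup (Co0 × PS) := Subgroup.closure (Set.range gen2)

/-- A pair moves every subspace and its vector compatibly. -/
def Good (p : Co0 × PS) : Prop :=
  ∃ M : SU6, mkP M = p.2 ∧ ∀ k : Fin 891, ∃ k' : Fin 891, p.1 • Lv k = Lv k' ∧
    ∀ c < 693, inPlane c k = true → ∃ c' < 693, inPlane c' k' = true ∧
      ∃ s : FF, s ≠ 0 ∧ mat M *ᵥ uvec (pv c) = s • uvec (pv c')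

theorem memP_nth : ∀ (n P c : ℕ), memP P c n = true → ∃ t < n, nth P t = c
  | 0, _, _, h => absurd h (by simp [memP])
  | n + 1, P, c, h => by
    rw [memP, Bool.or_eq_true, beq_iff_eq] at h
    rcases h with h | h
    · exact ⟨n, Nat.lt_succ_self n, h⟩
    · obtain ⟨t, ht, e⟩ := memP_nth n P c h
      exact ⟨t, Nat.lt_succ_of_lt ht, e⟩

theorem good_gen (g : Fin 6) : Good (gen2 g) := by
  obtain ⟨hM, hp, -⟩ := gens_spec g
  refine ⟨gU g, rfl, fun k => ?_⟩
  have h := allB_spec (allB_spec pl_moves g g.2) k k.2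
  rw [Bool.and_eq_true, decide_eq_true_eq] at h
  refine ⟨⟨_, h.1⟩, Subtype.ext ?_, fun c hc hin => ?_⟩
  · have hl := allB_spec lv_lat k k.2
    rw [Bool.and_eq_true, beq_iff_eq] at hl
    exact smul_list hM hl.1 (beq_iff_eq.1 (allB_spec (vec_moves g.2) k k.2)) _ rfl
  · obtain ⟨t, ht, rfl⟩ := memP_nth _ _ _ hin
    have hm := allB_spec (allB_spec pt_moves g g.2) (nth (plane k) t) hc
    rw [Bool.and_eq_true, decide_eq_true_eq] at hm
    refine ⟨_, hm.1, allB_spec h.2 t ht, ?_⟩
    rw [gU, tvOf_vec (iso_pt hp)]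
    exact isMult_spec hm.2

theorem closure_induction_finite {A : Type*} [Group A] [Finite A] {s : Set A} {Q : A → Prop}
    (mem : ∀ a ∈ s, Q a) (one : Q 1) (mul : ∀ a b, Q a → Q b → Q (a * b)) {a : A}
    (ha : a ∈ Subgroup.closure s) : Q a := by
  rw [← Subgroup.mem_toSubmonoid, Subgroup.closure_toSubmonoid_of_finite] at ha
  induction ha using Submonoid.closure_induction with
  | mem x hx => exact mem x hx
  | one => exact one
  | mul x y _ _ hx hy => exact mul x y hx hy

theorem PG_good (p : Co0 × PS) (hp : p ∈ PG) : Good p := by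
  haveI := Cross.finite_Co0
  refine closure_induction_finite (Q := Good) ?_ ?_ ?_ hp
  · rintro _ ⟨g, rfl⟩
    exact good_gen g
  · exact ⟨1, map_one _, fun k => ⟨k, one_smul _ _, fun c hc hin =>
      ⟨c, hc, hin, 1, one_ne_zero, by rw [mat_one, Matrix.one_mulVec, one_smul]⟩⟩⟩
  · rintro a b ⟨A, hA, ha⟩ ⟨B, hB, hb⟩
    refine ⟨A * B, by rw [map_mul, hA, hB, Prod.snd_mul], fun k => ?_⟩
    obtain ⟨k1, e1, h1⟩ := hb k
    obtain ⟨k2, e2, h2⟩ := ha k1
    refine ⟨k2, by rw [Prod.fst_mul, mul_smul, e1, e2], fun c hc hin => ?_⟩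
    obtain ⟨c1, hc1, hin1, s, hs0, hs⟩ := h1 c hc hin
    obtain ⟨c2, hc2, hin2, t, ht0, ht⟩ := h2 c1 hc1 hin1
    exact ⟨c2, hc2, hin2, s * t, mul_ne_zero hs0 ht0,
      by rw [mul_mulVec, hs, Matrix.mulVec_smul, ht, smul_smul]⟩

theorem Lv_injective : Function.Injective Lv := by
  intro a b e
  have key : ∀ i j : ℕ, i < j → j < 891 → enc (lv i) < enc (lv j) := by
    intro i j hij
    induction hij with
    | refl => exact fun hj => of_decide_eq_true (allB_spec lv_inj_ok i (by omega))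
    | @step m hm ih =>
      exact fun hj => lt_trans (ih (by omega)) (of_decide_eq_true (allB_spec lv_inj_ok m (by omega)))
  have hlen : ∀ k : Fin 891, (lv k).length = 24 := fun k => by
    have h := allB_spec lv_lat k k.2
    rw [Bool.and_eq_true, beq_iff_eq] at h
    exact h.1
  have el : lv a = lv b := by
    refine List.ext_getElem (by rw [hlen, hlen]) fun i h1 h2 => ?_
    have h := congrFun (congrArg Subtype.val e) (pt i)
    simp only [Lv, Gens.vec, ix_pt (show i < 24 by rw [hlen] at h1; exact h1)] at h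
    rwa [List.getD_eq_getElem _ _ h1, List.getD_eq_getElem _ _ h2] at h
  rcases lt_trichotomy (a : ℕ) b with h | h | h
  · exact absurd (congrArg enc el) (ne_of_lt (key _ _ h b.2))
  · exact Fin.ext h
  · exact absurd (congrArg enc el) (ne_of_gt (key _ _ h a.2))

theorem PG_fst_injective : Function.Injective ((MonoidHom.fst Co0 PS).comp PG.subtype) := by
  rw [injective_iff_map_eq_one]
  rintro ⟨⟨h, m⟩, hp⟩ (rfl : h = 1)
  refine Subtype.ext (Prod.ext rfl ?_)
  obtain ⟨M, hM, hfix⟩ := PG_good _ hp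
  show m = 1
  rw [show m = mkP M from hM.symm]
  have hpt : ∀ c < 693, ∃ s : FF, s ≠ 0 ∧ mat M *ᵥ uvec (pv c) = s • uvec (pv c) := by
    intro c hc
    have h2 := allB_spec two_ok c hc
    simp only [Bool.and_eq_true, decide_eq_true_eq] at h2
    obtain ⟨⟨⟨⟨ha, hb'⟩, hca⟩, hcb⟩, hmeet⟩ := h2
    obtain ⟨k1, e1, h1⟩ := hfix ⟨_, ha⟩
    obtain ⟨k2, e2, h2⟩ := hfix ⟨_, hb'⟩
    rw [one_smul] at e1 e2
    obtain rfl := Lv_injective e1
    obtain rfl := Lv_injective e2
    obtain ⟨c1, hc1, hin1, s, hs, q1⟩ := h1 c hc hca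
    obtain ⟨c2, hc2, hin2, t, ht, q2⟩ := h2 c hc hcb
    -- the two image points coincide, being proportional
    have hsame : c1 = c2 := by
      obtain ⟨t', -, et⟩ : ∃ t' : FF, t' ≠ 0 ∧ uvec (pv c1) = t' • uvec (pv c2) :=
        ⟨s⁻¹ * t, mul_ne_zero (inv_ne_zero hs) ht, by
          rw [mul_smul, ← q2, q1, smul_smul, inv_mul_cancel₀ hs, one_smul]⟩
      exact pv_unique hc1 hc2 et
    obtain ⟨u, hu, rfl⟩ := memP_nth _ _ _ hin1
    have hm := allB_spec hmeet u hu
    simp only [Bool.or_eq_true, beq_iff_eq, Bool.not_eq_true'] at hm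
    rcases hm with hm | hm
    · rw [hm] at q1
      exact ⟨s, hs, q1⟩
    · rw [hsame, hin2] at hm
      exact absurd hm (by norm_num)
  refine (QuotientGroup.eq_one_iff M).mpr (Subgroup.mem_center_iff.mpr fun g => ?_)
  have hg : g ∈ tvGroup FF 2 6 := tv_top ▸ Subgroup.mem_top g
  induction hg using Subgroup.closure_induction with
  | mem x hx =>
    rcases tvSet_cases hx with rfl | ⟨c, hc, rfl⟩
    · rw [one_mul, mul_one]
    · obtain ⟨s, hs, h⟩ := hpt c hc
      exact (tvOf_conj (iso_pt hc) (iso_pt hc) M hs h).symm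
  | one => rw [one_mul, mul_one]
  | mul a b _ _ iha ihb => rw [mul_assoc, ihb, ← mul_assoc, iha, mul_assoc]
  | inv a _ ih => exact (Commute.inv_left ih).eq

/-- The image in the unitary group. -/
def R : Subgroup PS := ((MonoidHom.snd Co0 PS).comp PG.subtype).range

theorem gen_mem_R (g : Fin 6) : mkP (gU g) ∈ R :=
  ⟨⟨gen2 g, Subgroup.subset_closure ⟨g, rfl⟩⟩, rfl⟩

theorem tv_mem_R : ∀ c < 693, mkP (tvOf (pv c)) ∈ R := by
  have key : ∀ (l : List (ℕ × ℕ × ℕ)) (done : List ℕ),
      (∀ c ∈ done, c < 693 ∧ mkP (tvOf (pv c)) ∈ R) →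
      ∀ c ∈ reach done l, c < 693 ∧ mkP (tvOf (pv c)) ∈ R := by
    intro l
    induction l with
    | nil => exact fun done hd c hc => hd c hc
    | cons e l ih =>
      intro done hd
      rw [reach]
      split_ifs with hb
      · refine ih _ ?_
        simp only [Bool.and_eq_true, decide_eq_true_eq, beq_iff_eq, List.contains_iff_mem] at hb
        obtain ⟨⟨⟨hmem, hk⟩, hlt⟩, heq⟩ := hb
        obtain ⟨-, hR⟩ := hd _ hmem
        intro c hc
        rcases List.mem_cons.mp hc with rfl | hc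
        · have hm := allB_spec (allB_spec pt_moves _ hk) _ hlt
          rw [Bool.and_eq_true, decide_eq_true_eq, heq] at hm
          refine ⟨hm.1, ?_⟩
          obtain ⟨s, hs, h⟩ := isMult_spec hm.2
          rw [← tvOf_vec (iso_pt (gens_spec ⟨_, hk⟩).2.1)] at h
          have hc' := congrArg mkP (tvOf_conj (iso_pt hlt) (iso_pt hm.1) (gU ⟨_, hk⟩) hs h)
          rw [map_mul, map_mul] at hc'
          rw [eq_mul_inv_of_mul_eq hc'.symm]
          exact mul_mem (mul_mem (gen_mem_R ⟨_, hk⟩) hR) (inv_mem (gen_mem_R ⟨_, hk⟩))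
        · exact hd c hc
      · exact ih done hd
  intro c hc
  refine (key chainL [gp 0] ?_ c (List.contains_iff_mem.1 (allB_spec reach_ok c hc))).2
  intro d hd
  rw [List.mem_singleton.1 hd]
  exact ⟨(gens_spec 0).2.1, gen_mem_R 0⟩

theorem R_top : R = ⊤ := by
  rw [eq_top_iff]
  intro x _
  obtain ⟨M, rfl⟩ := QuotientGroup.mk'_surjective _ x
  have h : tvGroup FF 2 6 ≤ R.comap mkP := by
    rw [tvGroup, Subgroup.closure_le]
    intro g hg
    rcases tvSet_cases hg with rfl | ⟨c, hc, rfl⟩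
    · exact one_mem _
    · exact tv_mem_R c hc
  exact h (tv_top ▸ Subgroup.mem_top M)

theorem card_PS : Nat.card PS = 9196830720 := by
  show Nat.card (Cfsg.PSU 6 FF 2) = _
  have h := S0280.result (F := FF) (q := 2) hF 6 (by norm_num)
  norm_num [Finset.prod_range_succ, Nat.even_iff] at h
  omega

theorem dot_vw : sqNorm (vv : Vec) = 32 ∧ sqNorm (ww : Vec) = 32 ∧ dotInt (vv : Vec) (ww : Vec) = -16 := by
  show sqNorm (lvec vL) = 32 ∧ sqNorm (lvec wL) = 32 ∧ dotInt (lvec vL) (lvec wL) = -16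
  decide +kernel

theorem card_H : Nat.card H = 9196830720 := by
  haveI := Cross.finite_Co0
  have horb : MulAction.orbit Co0 vv = {u : leechLattice | sqNorm (u : Vec) = 32} := by
    ext u
    exact ⟨fun ⟨g, hg⟩ => hg ▸ (sqNorm_smul g vv).trans dot_vw.1, fun hu => by
      obtain ⟨g, hg⟩ := Shells.transitive32 vv u dot_vw.1 hu
      exact ⟨g, hg⟩⟩
  have h1 := (MulAction.stabilizer Co0 vv).card_mul_index
  rw [MulAction.index_stabilizer, horb, Cross.card_Co0] at h1
  have h196 : {u : leechLattice | sqNorm (u : Vec) = 32}.ncard = 196560 := by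
    rw [← Moments.card_short, ← Set.ncard_coe_finset]
    exact congrArg Set.ncard (Set.ext fun u => Moments.mem_short.symm)
  rw [h196] at h1
  set A := MulAction.stabilizer Co0 vv
  have hcls : MulAction.orbit A ww =
      {u : leechLattice | sqNorm (u : Vec) = 32 ∧ dotInt (vv : Vec) (u : Vec) = -16} := by
    ext u
    constructor
    · rintro ⟨⟨g, hg⟩, rfl⟩
      refine ⟨(sqNorm_smul g ww).trans dot_vw.2.1, ?_⟩
      show dotInt (vv : Vec) ((g • ww : leechLattice) : Vec) = -16
      conv_lhs => rw [← (show g • vv = vv from hg)]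
      rw [dot_smul]
      exact dot_vw.2.2
    · rintro ⟨hu, hd⟩
      obtain ⟨g, g1, g2⟩ := Pairs.trans_pairs vv ww vv u dot_vw.1 dot_vw.2.1 dot_vw.1 hu
        (Or.inr (by rw [dot_vw.2.2]; rfl)) (hd.trans dot_vw.2.2.symm)
      exact ⟨⟨g, g1⟩, g2⟩
  have h4600 : {u : leechLattice | sqNorm (u : Vec) = 32 ∧ dotInt (vv : Vec) (u : Vec) = -16}.ncard = 4600 := by
    rw [← (Moments.census32 dot_vw.1).1, ← Moments.cnt_neg, Moments.cnt, ← Set.ncard_coe_finset]
    exact congrArg Set.ncard (Set.ext fun u => by simp [Moments.mem_short])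
  have h2 := (MulAction.stabilizer A ww).card_mul_index
  rw [MulAction.index_stabilizer, hcls, h4600] at h2
  have e : Nat.card (MulAction.stabilizer A ww) = Nat.card H :=
    Nat.card_congr ⟨fun s => ⟨s.1.1, s.1.2, s.2⟩, fun s => ⟨⟨s.1, s.2.1⟩, s.2.2⟩, fun _ => rfl, fun _ => rfl⟩
  omega

theorem nonempty_equiv : Nonempty (H ≃* PS) := by
  haveI := Cross.finite_Co0
  have hle : ((MonoidHom.fst Co0 PS).comp PG.subtype).range ≤ H := by
    rw [MonoidHom.range_eq_map, ← Subgroup.map_map, ← MonoidHom.range_eq_map, Subgroup.range_subtype, PG,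
      MonoidHom.map_closure, Subgroup.closure_le]
    rintro _ ⟨_, ⟨g, rfl⟩, rfl⟩
    exact (gens_spec g).2.2
  let f : PG →* H := ((MonoidHom.fst Co0 PS).comp PG.subtype).codRestrict H fun p => hle ⟨p, rfl⟩
  have hf : Function.Injective f := fun a b h => PG_fst_injective (congrArg Subtype.val h)
  let s : PG →* PS := (MonoidHom.snd Co0 PS).comp PG.subtype
  have hs : Function.Surjective s := fun x => (show x ∈ R from R_top ▸ Subgroup.mem_top x)
  have h1 := Nat.card_le_card_of_injective f hf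
  have h2 := Nat.card_le_card_of_surjective s hs
  rw [card_H] at h1
  rw [card_PS] at h2
  have hP : Nat.card PG = 9196830720 := le_antisymm h1 h2
  have bf : Function.Bijective f := (Nat.bijective_iff_injective_and_card f).2 ⟨hf, hP.trans card_H.symm⟩
  have bs : Function.Bijective s := (Nat.bijective_iff_surjective_and_card s).2 ⟨hs, hP.trans card_PS.symm⟩
  exact ⟨(MulEquiv.ofBijective f bf).symm.trans (MulEquiv.ofBijective s bs)⟩

end Cfsg.Agent.GroupStructure3.Co222
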