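import Cfsg.Agent.GroupStructure3.Co222.Check

/-!
The six matrices move the 891 vectors as tabulated.
-/

set_option autoImplicit false
set_option maxRecDepth 10000

namespace Cfsg.Agent.GroupStructure3.Co222

open Cfsg.Agent.GroupStructure3.McLInv (allB allB_spec)
open Cfsg.Agent.InvChar.Coset.FiUnit (hb app isMult)
open Cfsg.Agent.Lib.PcMult.Leech (Mat mapL okMat)
open Cfsg.Agent.LeechAut.Gens (inLat vec)

/-- The test of one generator on the vectors. -/
def vecMoves (g : ℕ) : Bool := allB 891 fun k => mapL (lv k) (gm g) == (lv (plI g k)).map fun x => 8 * x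

theorem vec_moves0 : vecMoves 0 = true := by decide +kernel

theorem vec_moves1 : vecMoves 1 = true := by decide +kernel

theorem vec_moves2 : vecMoves 2 = true := by decide +kernel

theorem vec_moves3 : vecMoves 3 = true := by decide +kernel

theorem vec_moves4 : vecMoves 4 = true := by decide +kernel

theorem vec_moves5 : vecMoves 5 = true := by decide +kernel

theorem vec_moves {g : ℕ} (hg : g < 6) : vecMoves g = true := by
  interval_cases g
  exacts [vec_moves0, vec_moves1, vec_moves2, vec_moves3, vec_moves4, vec_moves5]

end Cfsg.Agent.GroupStructure3.Co222
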